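import Groth.Agent.DivDescLib.Ring
import Groth.Agent.SDivLib.Stalk
import Groth.Agent.BlowUpLib.Cartier
import Groth.Agent.AlgSpLib.ReducedStalk
import Mathlib.AlgebraicGeometry.Morphisms.Flat

/-!
# Stalks of ideal sheaves: associated points, base change
-/

set_option autoImplicit false
set_option backward.isDefEq.respectTransparency.types false

universe u

open CategoryTheory AlgebraicGeometry TopologicalSpace IsLocalRing

namespace DivDescLib

variable {X Y : Scheme.{u}}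

/-- Membership in the extension of an ideal to a local ring. -/
theorem germ_mem_iff (V : X.affineOpens) (L : Ideal Γ(X, V.1)) {x : X} (hx : x ∈ V.1) (a : Γ(X, V.1)) :
    (X.presheaf.germ V.1 x hx).hom a ∈ L.map (X.presheaf.germ V.1 x hx).hom ↔
      ∃ c, c ∉ SDivLib.prm V hx ∧ c * a ∈ L := by
  letI := X.presheaf.algebra_section_stalk (⟨x, hx⟩ : V.1)
  haveI : IsLocalization.AtPrime (X.presheaf.stalk x) (SDivLib.prm V hx) := V.2.isLocalization_stalk ⟨x, hx⟩
  have h := IsLocalization.algebraMap_mem_map_algebraMap_iff (SDivLib.prm V hx).primeCompl (X.presheaf.stalk x) L a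
  exact h.trans ⟨fun ⟨c, hc, h⟩ => ⟨c, hc, h⟩, fun ⟨c, hc, h⟩ => ⟨c, hc, h⟩⟩

theorem isUnit_germ_iff (V : X.affineOpens) {x : X} (hx : x ∈ V.1) (a : Γ(X, V.1)) :
    IsUnit ((X.presheaf.germ V.1 x hx).hom a) ↔ a ∉ SDivLib.prm V hx := by
  rw [SDivLib.mem_prm_iff, not_not]

/-- Membership in an ideal is local. -/
theorem mem_of_germ (V : X.affineOpens) (L : Ideal Γ(X, V.1)) (a : Γ(X, V.1))
    (h : ∀ x (hx : x ∈ V.1), (X.presheaf.germ V.1 x hx).hom a ∈ L.map (X.presheaf.germ V.1 x hx).hom) : a ∈ L := by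
  by_contra hne
  obtain ⟨P, hP, hle⟩ := Ideal.exists_le_maximal (L.colon {a}) fun htop => hne (by
    simpa using Submodule.mem_colon_singleton.1 ((Ideal.eq_top_iff_one _).1 htop))
  haveI := hP.isPrime
  obtain ⟨x, hx, rfl⟩ := SDivLib.exists_point V P
  obtain ⟨c, hc, hca⟩ := (germ_mem_iff V L hx a).1 (h x hx)
  exact hc (hle (Submodule.mem_colon_singleton.2 hca))

theorem exists_germ_eq (V : X.affineOpens) {x : X} (hx : x ∈ V.1) (z : X.presheaf.stalk x) :
    ∃ a c, c ∉ SDivLib.prm V hx ∧ z * (X.presheaf.germ V.1 x hx).hom c = (X.presheaf.germ V.1 x hx).hom a := by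
  letI := X.presheaf.algebra_section_stalk (⟨x, hx⟩ : V.1)
  haveI : IsLocalization.AtPrime (X.presheaf.stalk x) (SDivLib.prm V hx) := V.2.isLocalization_stalk ⟨x, hx⟩
  obtain ⟨⟨a, c⟩, h⟩ := IsLocalization.surj (SDivLib.prm V hx).primeCompl z
  exact ⟨a, c.1, c.2, h⟩

/-- A section outside an ideal at a point stays outside at an associated generization. -/
theorem exists_assPoint [IsLocallyNoetherian X] (V : X.affineOpens) (L : Ideal Γ(X, V.1)) {x : X} (hx : x ∈ V.1)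
    (e : Γ(X, V.1)) (h : (X.presheaf.germ V.1 x hx).hom e ∉ L.map (X.presheaf.germ V.1 x hx).hom) :
    ∃ (x' : X) (hx' : x' ∈ V.1), x' ⤳ x ∧
      (X.presheaf.germ V.1 x' hx').hom e ∉ L.map (X.presheaf.germ V.1 x' hx').hom ∧
      ∃ w : X.presheaf.stalk x', w ∉ L.map (X.presheaf.germ V.1 x' hx').hom ∧
        ∀ b ∈ maximalIdeal (X.presheaf.stalk x'), b * w ∈ L.map (X.presheaf.germ V.1 x' hx').hom := by
  let γ := (X.presheaf.germ V.1 x hx).hom
  obtain ⟨P, hP, hle⟩ := exists_le_isAssociatedPrime_of_isNoetherianRing (R := X.presheaf.stalk x)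
    (Ideal.Quotient.mk (L.map γ) (γ e)) fun h' => h (Ideal.Quotient.eq_zero_iff_mem.1 h')
  haveI := hP.isPrime
  obtain ⟨-, z, hz⟩ := isAssociatedPrime_iff.1 hP
  obtain ⟨w₁, rfl⟩ := Ideal.Quotient.mk_surjective z
  have hmem : ∀ q c : X.presheaf.stalk x,
      c ∈ (⊥ : Submodule (X.presheaf.stalk x) (X.presheaf.stalk x ⧸ L.map γ)).colon {Ideal.Quotient.mk (L.map γ) q} ↔
        c * q ∈ L.map γ := by
    intro q c
    rw [Submodule.mem_colon_singleton, Submodule.mem_bot, Algebra.smul_def, Ideal.Quotient.algebraMap_eq,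
      ← map_mul, Ideal.Quotient.eq_zero_iff_mem]
  obtain ⟨w, c₀, hc₀, hw⟩ := exists_germ_eq V hx w₁
  have hc₀u := (isUnit_germ_iff V hx c₀).2 hc₀
  obtain ⟨x', hx', hpe⟩ := SDivLib.exists_point V (P.comap γ)
  have hPx : P.comap γ ≤ SDivLib.prm V hx := fun c hc =>
    (SDivLib.mem_prm_iff _ _ _).2 fun hu => hP.isPrime.ne_top (Ideal.eq_top_of_isUnit_mem _ hc hu)
  refine ⟨x', hx', (SDivLib.specializes_iff_prm V hx hx').2 (hpe ▸ hPx), fun hc => ?_,
    (X.presheaf.germ V.1 x' hx').hom w, fun hc => ?_, fun b hb => ?_⟩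
  · obtain ⟨c, hc, hce⟩ := (germ_mem_iff V L hx' e).1 hc
    refine hc (hpe ▸ (hle ((hmem (γ e) (γ c)).2 ?_) : γ c ∈ P))
    rw [← map_mul]
    exact Ideal.mem_map_of_mem γ hce
  · obtain ⟨c, hc, hcw⟩ := (germ_mem_iff V L hx' w).1 hc
    refine hc (hpe ▸ (hz ▸ (hmem w₁ (γ c)).2 ?_ : γ c ∈ P))
    rw [← (L.map γ).unit_mul_mem_iff_mem hc₀u, mul_comm, mul_assoc, hw, ← map_mul]
    exact Ideal.mem_map_of_mem γ hcw
  · obtain ⟨a, c, hc, hbc⟩ := exists_germ_eq V hx' b
    have hcu := (isUnit_germ_iff V hx' c).2 hc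
    have ha : γ a ∈ P := by
      suffices a ∈ SDivLib.prm V hx' by rw [hpe] at this; exact this
      by_contra hne
      refine (mem_maximalIdeal b).1 hb ?_
      have := (isUnit_germ_iff V hx' a).2 hne
      rw [← hbc] at this
      exact (IsUnit.mul_iff.1 this).1
    have h1 : γ (a * w) ∈ L.map γ := by
      rw [map_mul, ← hw, ← mul_assoc, mul_comm]
      exact Ideal.mul_mem_left _ _ ((hmem w₁ (γ a)).1 (hz ▸ ha))
    obtain ⟨c₂, hc₂, h2⟩ := (germ_mem_iff V L hx (a * w)).1 h1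
    have hc₂' : c₂ ∉ SDivLib.prm V hx' := fun hh => hc₂ (hPx (hpe ▸ hh))
    rw [← (L.map (X.presheaf.germ V.1 x' hx').hom).unit_mul_mem_iff_mem hcu, ← mul_assoc, mul_comm _ b, hbc,
      ← map_mul, ← (L.map (X.presheaf.germ V.1 x' hx').hom).unit_mul_mem_iff_mem ((isUnit_germ_iff V hx' c₂).2 hc₂'),
      ← map_mul]
    exact Ideal.mem_map_of_mem _ h2

variable (f : X ⟶ Y)

/-- The stalk map followed by the germ. -/
theorem germ_stalkMap_appLE (W : Y.Opens) (V : X.Opens) (e : V ≤ f ⁻¹ᵁ W) {x : X} (hx : x ∈ V) :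
    (X.presheaf.germ V x hx).hom.comp (f.appLE W V e).hom =
      (f.stalkMap x).hom.comp (Y.presheaf.germ W (f x) (e hx)).hom := by
  rw [← CommRingCat.hom_comp, ← CommRingCat.hom_comp]
  congr 1
  rw [Scheme.Hom.germ_stalkMap, Scheme.Hom.appLE, Category.assoc, X.presheaf.germ_res]

/-- Stalks of inverse images of ideals. -/
theorem stalkIdeal_comap (I : Y.IdealSheafData) (x : X) :
    IntMult.stalkIdeal (I.comap f) x = (IntMult.stalkIdeal I (f x)).map (f.stalkMap x).hom := by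
  obtain ⟨W, hW, hxW, -⟩ := exists_isAffineOpen_mem_and_subset (x := f x) (U := ⊤) trivial
  obtain ⟨V, hV, hxV, hle⟩ := exists_isAffineOpen_mem_and_subset (x := x) (U := f ⁻¹ᵁ W) hxW
  have hle' : V ≤ f ⁻¹ᵁ W := hle
  rw [SDivLib.stalkIdeal_eq _ ⟨V, hV⟩ hxV, SDivLib.stalkIdeal_eq _ ⟨W, hW⟩ hxW,
    Groth.Agent.S4666.ideal_comap_eq I f ⟨W, hW⟩ ⟨V, hV⟩ hle', Ideal.map_map, Ideal.map_map,
    germ_stalkMap_appLE f W V hle' hxV]

theorem eq_of_stalk {I J : X.IdealSheafData} (h : ∀ x, IntMult.stalkIdeal I x = IntMult.stalkIdeal J x) : I = J :=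
  le_antisymm (SDivLib.le_of_stalk fun x => (h x).le) (SDivLib.le_of_stalk fun x => (h x).ge)

/-- The local generator of an effective Cartier ideal. -/
theorem exists_gen [IsLocallyNoetherian X] {J : X.IdealSheafData} (hJ : BlowUp.IsEffCartierIdeal J) (x : X) :
    ∃ t ∈ nonZeroDivisors (X.presheaf.stalk x), IntMult.stalkIdeal J x = Ideal.span {t} := by
  obtain ⟨V, hx, t, ht, hJV⟩ := hJ x
  letI := X.presheaf.algebra_section_stalk (⟨x, hx⟩ : V.1)
  haveI : IsLocalization.AtPrime (X.presheaf.stalk x) (SDivLib.prm V hx) := V.2.isLocalization_stalk ⟨x, hx⟩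
  refine ⟨_, BlowUpLib.nzd_of_flat (algebraMap Γ(X, V.1) (X.presheaf.stalk x))
    (RingHom.flat_algebraMap_iff.2 (IsLocalization.flat _ (SDivLib.prm V hx).primeCompl)) ht, ?_⟩
  rw [SDivLib.stalkIdeal_eq J V hx, hJV, Ideal.map_span, Set.image_singleton]
  rfl

theorem flat_stalkMap [Flat f] (x : X) : (f.stalkMap x).hom.Flat := Flat.stalkMap f x

end DivDescLib
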