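import Groth.Agent.DivDescLib.Normal

/-!
# Criteria for descent of effective Cartier divisors
-/

set_option autoImplicit false
set_option backward.isDefEq.respectTransparency.types false

universe u

open CategoryTheory CategoryTheory.Limits AlgebraicGeometry TopologicalSpace IsLocalRing

noncomputable section

namespace DivDescLib

variable {X Y : Scheme.{u}} (f : X ⟶ Y)

/-- Quasi-compact opens covering affine opens. -/
theorem exists_cover [Surjective f] (hf : QuasiCompact f ∨ IsOpenMap f) (W : Y.affineOpens) :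
    ∃ U : X.Opens, IsCompact (U : Set X) ∧ (U : Set X) ⊆ f ⁻¹' W.1 ∧ (W.1 : Set Y) ⊆ f '' U := by
  rcases hf with hf | hf
  · refine ⟨f ⁻¹ᵁ W.1, f.isCompact_preimage W.2.isCompact, subset_rfl, fun y hy => ?_⟩
    obtain ⟨x, rfl⟩ := f.surjective y
    exact ⟨x, hy, rfl⟩
  have hcov : ∀ y : (W.1 : Set Y), ∃ V : X.affineOpens, V.1 ≤ f ⁻¹ᵁ W.1 ∧ (y : Y) ∈ f '' V.1 := fun y => by
    obtain ⟨x, hx⟩ := f.surjective (y : Y)
    obtain ⟨V, hV, hxV, hle⟩ := exists_isAffineOpen_mem_and_subset (x := x) (U := f ⁻¹ᵁ W.1)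
      (by show f x ∈ W.1; rw [hx]; exact y.2)
    exact ⟨⟨V, hV⟩, hle, x, hxV, hx⟩
  choose V hVW hyV using hcov
  obtain ⟨T, hT⟩ := W.2.isCompact.elim_finite_subcover (fun y => f '' ((V y).1 : Set X))
    (fun y => hf _ (V y).1.2) fun y hy => Set.mem_iUnion.2 ⟨⟨y, hy⟩, hyV _⟩
  refine ⟨⟨⋃ y ∈ T, ((V y).1 : Set X), isOpen_biUnion fun y _ => (V y).1.2⟩,
    T.finite_toSet.isCompact_biUnion fun y _ => (V y).2.isCompact, ?_, ?_⟩
  · intro z hz
    obtain ⟨y, -, hzy⟩ := Set.mem_iUnion₂.1 hz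
    exact hVW y hzy
  · intro w hw
    obtain ⟨y, hy, z, hz, rfl⟩ := Set.mem_iUnion₂.1 (hT hw)
    exact ⟨z, Set.mem_iUnion₂.2 ⟨y, hy, hz⟩, rfl⟩

theorem stalkIdeal_top (x : X) : IntMult.stalkIdeal (⊤ : X.IdealSheafData) x = ⊤ := by
  rw [← Scheme.IdealSheafData.one_eq_top, SDivLib.stalkIdeal_one]

/-- The germ at a generization on the spectrum of a local ring. -/
theorem fromSpecStalk_stalkMap (y : Y) (z : Spec (Y.presheaf.stalk y)) (h : Y.fromSpecStalk y z ⤳ y) :
    Y.presheaf.stalkSpecializes h ≫ (Y.fromSpecStalk y).stalkMap z =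
      (Scheme.ΓSpecIso (Y.presheaf.stalk y)).inv ≫ (Spec (Y.presheaf.stalk y)).presheaf.germ ⊤ z trivial := by
  refine TopCat.Presheaf.stalk_hom_ext _ fun V hV => ?_
  rw [TopCat.Presheaf.germ_stalkSpecializes_assoc, Scheme.Hom.germ_stalkMap, Scheme.fromSpecStalk_app hV,
    Category.assoc, Category.assoc, TopCat.Presheaf.germ_res]

/-- The hypothesis at a point, in terms of stalks. -/
theorem locAt_of_exists (J : X.IdealSheafData) (y : Y)
    (h : ∃ 𝓘₁ : (Spec (Y.presheaf.stalk y)).IdealSheafData, BlowUp.IsEffCartierIdeal 𝓘₁ ∧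
      𝓘₁.comap (pullback.snd f (Y.fromSpecStalk y)) = J.comap (pullback.fst f (Y.fromSpecStalk y))) :
    LocAt f J y := by
  obtain ⟨I₁, hI, heq⟩ := h
  obtain ⟨⟨U, hUa⟩, hxU, g₀, hg₀, hU⟩ := hI (closedPoint (Y.presheaf.stalk y))
  obtain rfl : U = ⊤ := top_le_iff.1 fun z _ => (IsLocalRing.specializes_closedPoint z).mem_open U.2 hxU
  refine ⟨(Scheme.ΓSpecIso (Y.presheaf.stalk y)).hom.hom g₀,
    BlowUpLib.nzd_of_bijective _ (ConcreteCategory.bijective_of_isIso _) hg₀, fun x hx => ?_⟩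
  obtain ⟨z, hz⟩ : f x ∈ Set.range (Y.fromSpecStalk y) := by rw [Scheme.range_fromSpecStalk]; exact hx
  obtain ⟨p, hp1, hp2⟩ := Scheme.Pullback.exists_preimage_pullback (f := f) (g := Y.fromSpecStalk y) x z hz.symm
  subst hp1 hp2
  haveI : Flat (Y.fromSpecStalk y) := AlgSpLib.flat_fromSpecStalk y
  haveI : Flat (pullback.fst f (Y.fromSpecStalk y)) := MorphismProperty.pullback_fst _ _ inferInstance
  have hzy : Y.fromSpecStalk y (pullback.snd f (Y.fromSpecStalk y) p) ⤳ y := (specializes_of_eq hz).trans hx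
  have e := congrArg (fun K => IntMult.stalkIdeal K p) heq
  simp only [stalkIdeal_comap] at e
  have hfl := flat_stalkMap (pullback.fst f (Y.fromSpecStalk y)) p
  refine (comap_map_self _ hfl (IntMult.stalkIdeal J _)).symm.trans (Eq.trans ?_ (comap_map_self _ hfl _))
  rw [← e]
  congr 1
  rw [SDivLib.stalkIdeal_eq I₁ ⟨⊤, hUa⟩ (x := pullback.snd f (Y.fromSpecStalk y) p) trivial, hU, Ideal.map_span,
    Set.image_singleton, Ideal.map_span, Set.image_singleton, Ideal.map_span, Set.image_singleton]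
  congr 2
  have e1 : (Spec (Y.presheaf.stalk y)).presheaf.germ ⊤ (pullback.snd f (Y.fromSpecStalk y) p) trivial =
      (Scheme.ΓSpecIso (Y.presheaf.stalk y)).hom ≫ Y.presheaf.stalkSpecializes hzy ≫
        (Y.fromSpecStalk y).stalkMap (pullback.snd f (Y.fromSpecStalk y) p) := by
    rw [fromSpecStalk_stalkMap y _ hzy, Iso.hom_inv_id_assoc]
  have e2 : Y.presheaf.stalkSpecializes hzy ≫ (Y.fromSpecStalk y).stalkMap (pullback.snd f (Y.fromSpecStalk y) p) ≫
        (pullback.snd f (Y.fromSpecStalk y)).stalkMap p =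
      Y.presheaf.stalkSpecializes hx ≫ f.stalkMap (pullback.fst f (Y.fromSpecStalk y) p) ≫
        (pullback.fst f (Y.fromSpecStalk y)).stalkMap p := by
    rw [← Scheme.Hom.stalkMap_comp, ← Scheme.Hom.stalkMap_comp,
      Scheme.Hom.stalkMap_congr_hom (pullback.snd f (Y.fromSpecStalk y) ≫ Y.fromSpecStalk y)
        (pullback.fst f (Y.fromSpecStalk y) ≫ f) pullback.condition.symm p,
      TopCat.Presheaf.stalkCongr_hom]
    exact TopCat.Presheaf.stalkSpecializes_comp_assoc _ _ _ _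
  change ((Spec (Y.presheaf.stalk y)).presheaf.germ ⊤ (pullback.snd f (Y.fromSpecStalk y) p) trivial ≫
      (pullback.snd f (Y.fromSpecStalk y)).stalkMap p).hom g₀ =
    ((Scheme.ΓSpecIso (Y.presheaf.stalk y)).hom ≫ Y.presheaf.stalkSpecializes hx ≫
      f.stalkMap (pullback.fst f (Y.fromSpecStalk y) p) ≫ (pullback.fst f (Y.fromSpecStalk y)).stalkMap p).hom g₀
  rw [e1]
  simp only [Category.assoc]
  rw [e2]

theorem exists_of_descent {J : X.IdealSheafData} {I : Y.IdealSheafData} (hI : BlowUp.IsEffCartierIdeal I)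
    (h : I.comap f = J) (y : Y) :
    ∃ 𝓘₁ : (Spec (Y.presheaf.stalk y)).IdealSheafData, BlowUp.IsEffCartierIdeal 𝓘₁ ∧
      𝓘₁.comap (pullback.snd f (Y.fromSpecStalk y)) = J.comap (pullback.fst f (Y.fromSpecStalk y)) := by
  haveI := AlgSpLib.flat_fromSpecStalk y
  refine ⟨I.comap (Y.fromSpecStalk y), BlowUpLib.isEffCartier_comap_of_flat _ hI, ?_⟩
  rw [← h, ← Scheme.IdealSheafData.comap_comp, ← Scheme.IdealSheafData.comap_comp, pullback.condition]

theorem criterion_local [IsLocallyNoetherian X] [IsLocallyNoetherian Y] [Flat f] [Surjective f]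
    (hf : QuasiCompact f ∨ IsOpenMap f) {J : X.IdealSheafData} (hJ : BlowUp.IsEffCartierIdeal J) :
    (∃ 𝓘 : Y.IdealSheafData, BlowUp.IsEffCartierIdeal 𝓘 ∧ 𝓘.comap f = J) ↔
      ∀ y : ↥Y, LocCoh.depth ↑(Y.presheaf.stalk y) ↑(Y.presheaf.stalk y) ≤ 1 →
        ∃ 𝓘₁ : (Spec (Y.presheaf.stalk y)).IdealSheafData, BlowUp.IsEffCartierIdeal 𝓘₁ ∧
          𝓘₁.comap (pullback.snd f (Y.fromSpecStalk y)) = J.comap (pullback.fst f (Y.fromSpecStalk y)) :=
  ⟨fun ⟨_, hI, h⟩ y _ => exists_of_descent f hI h y,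
    fun h => exists_descent f hJ (fun y hy => locAt_of_exists f J y (h y hy)) (exists_cover f hf)⟩

theorem comap_fiberι_eq_top {J : X.IdealSheafData} {η : Y} (h : ∀ x, f x = η → IntMult.stalkIdeal J x = ⊤) :
    J.comap (f.fiberι η) = ⊤ := by
  refine eq_of_stalk fun z => ?_
  have hz : f (f.fiberι η z) = η := by
    have h' : f.fiberι η z ∈ Set.range (f.fiberι η) := ⟨z, rfl⟩
    rwa [f.range_fiberι] at h'
  rw [stalkIdeal_comap, h _ hz, Ideal.map_top, stalkIdeal_top]

theorem field_of_maximal [IsLocallyNoetherian Y] (hY : Pi1.IsNormalScheme Y) {η : Y}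
    (hη : ∀ z : ↥Y, z ⤳ η → z = η) : maximalIdeal (Y.presheaf.stalk η) = ⊥ := by
  haveI := (hY η).1
  obtain ⟨W, hW, hηW, -⟩ := exists_isAffineOpen_mem_and_subset (x := η) (U := ⊤) trivial
  let U : Y.affineOpens := ⟨W, hW⟩
  letI := Y.presheaf.algebra_section_stalk (⟨η, hηW⟩ : U.1)
  haveI := SDivLib.prm_isPrime U hηW
  haveI : IsLocalization.AtPrime (Y.presheaf.stalk η) (SDivLib.prm U hηW) := U.2.isLocalization_stalk ⟨η, hηW⟩
  let P : Ideal Γ(Y, U.1) := (⊥ : Ideal (Y.presheaf.stalk η)).comap (algebraMap Γ(Y, U.1) (Y.presheaf.stalk η))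
  haveI : (⊥ : Ideal (Y.presheaf.stalk η)).IsPrime := Ideal.isPrime_bot
  haveI hP : P.IsPrime := Ideal.IsPrime.comap _
  obtain ⟨z, hz, hzP⟩ := SDivLib.exists_point U P
  have hle : P ≤ SDivLib.prm U hηW := by
    rw [← IsLocalization.AtPrime.comap_maximalIdeal (Y.presheaf.stalk η) (SDivLib.prm U hηW)]
    exact Ideal.comap_mono bot_le
  have hzη := hη z ((SDivLib.specializes_iff_prm U hηW hz).2 (hzP ▸ hle))
  subst hzη
  rw [← IsLocalization.AtPrime.map_eq_maximalIdeal (SDivLib.prm U hηW) (Y.presheaf.stalk z), eq_bot_iff,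
    show SDivLib.prm U hηW = P from hzP]
  exact Ideal.map_comap_le

theorem criterion_normal [IsLocallyNoetherian X] [IsLocallyNoetherian Y] [Flat f] [Surjective f]
    (hf : QuasiCompact f ∨ IsOpenMap f) (hY : Pi1.IsNormalScheme Y)
    (hfib : ∀ y : ↥Y, ringKrullDim ↑(Y.presheaf.stalk y) = 1 → ∀ z z' : ↥(f.fiber y),
      IsAssociatedPrime (IsLocalRing.maximalIdeal ↑((f.fiber y).presheaf.stalk z)) ↑((f.fiber y).presheaf.stalk z) →
      IsAssociatedPrime (IsLocalRing.maximalIdeal ↑((f.fiber y).presheaf.stalk z')) ↑((f.fiber y).presheaf.stalk z') →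
      z' ⤳ z → z' = z)
    {J : X.IdealSheafData} (hJ : BlowUp.IsEffCartierIdeal J) :
    (∃ 𝓘 : Y.IdealSheafData, BlowUp.IsEffCartierIdeal 𝓘 ∧ 𝓘.comap f = J) ↔
      ((∀ η : ↥Y, (∀ z : ↥Y, z ⤳ η → z = η) → J.comap (f.fiberι η) = ⊤) ∧
        ∀ y : ↥Y, ringKrullDim ↑(Y.presheaf.stalk y) = 1 → ∀ π, maximalIdeal (Y.presheaf.stalk y) = Ideal.span {π} →
          ∃ n : ℕ, ∀ (x : X) (hx : f x = y), (∀ p : X, f p = y → p ⤳ x → p = x) →
            IntMult.stalkIdeal J x = Ideal.span {ψ f (specializes_of_eq hx) π ^ n}) := by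
  constructor
  · rintro ⟨I, hI, rfl⟩
    refine ⟨fun η hη => comap_fiberι_eq_top f fun x hx => ?_, fun y hy π hπ => ?_⟩
    · subst hx
      rw [stalkIdeal_comap]
      obtain ⟨g, hg, hgI⟩ := exists_gen hI (f x)
      haveI := (hY (f x)).1
      have hu : IsUnit g := notMem_maximalIdeal.1 fun h => by
        rw [field_of_maximal hY hη, Submodule.mem_bot] at h
        exact nonZeroDivisors.ne_zero hg h
      rw [hgI, Ideal.span_singleton_eq_top.2 hu, Ideal.map_top]
    · obtain ⟨g, hg, hgI⟩ := exists_gen hI y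
      haveI := (hY y).1
      obtain ⟨n, u, hu, rfl⟩ := exists_pow hπ (nonZeroDivisors.ne_zero hg)
      refine ⟨n, fun x hx _ => ?_⟩
      subst hx
      rw [stalkIdeal_comap, hgI, Ideal.map_span, Set.image_singleton, map_mul, map_pow,
        Ideal.span_singleton_mul_left_unit (hu.map (f.stalkMap x).hom), ψ, RingHom.comp_apply,
        TopCat.Presheaf.stalkSpecializes_refl]
      rfl
  · rintro ⟨h0, h1⟩
    exact exists_descent f hJ (fun y hy => locAt_of_normal f hJ hY hfib h0 h1 y hy) (exists_cover f hf)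

/-- Points of integral fibres with associated maximal ideal are generic. -/
theorem emb_of_isIntegral {Z : Scheme.{u}} [IsIntegral Z] (z z' : Z) [IsNoetherianRing (Z.presheaf.stalk z)]
    (h : IsAssociatedPrime (maximalIdeal (Z.presheaf.stalk z)) (Z.presheaf.stalk z)) (h' : z' ⤳ z) : z' = z := by
  obtain ⟨-, a, ha⟩ := isAssociatedPrime_iff.1 h
  obtain ⟨W, hW, hzW, -⟩ := exists_isAffineOpen_mem_and_subset (x := z) (U := ⊤) trivial
  let U : Z.affineOpens := ⟨W, hW⟩
  have hz' : z' ∈ U.1 := h'.mem_open U.1.2 hzW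
  refine (h'.antisymm ((SDivLib.specializes_iff_prm U hz' hzW).2 fun d hd => ?_)).eq
  rw [SDivLib.mem_prm_iff] at hd
  by_cases hd0 : (Z.presheaf.germ U.1 z hzW).hom d = 0
  · refine (SDivLib.mem_prm_iff _ _ _).2 ?_
    rw [← Z.presheaf.germ_stalkSpecializes hzW h', CommRingCat.hom_comp, RingHom.comp_apply, hd0,
      map_zero]
    exact not_isUnit_zero
  · exfalso
    have hm := ha.le ((mem_maximalIdeal _).2 hd)
    rw [Submodule.mem_colon_singleton, Submodule.mem_bot, smul_eq_mul, mul_eq_zero] at hm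
    rcases hm with hm | hm
    · exact hd0 hm
    · refine h.isPrime.ne_top ((Ideal.eq_top_iff_one _).2 (ha.ge ?_))
      rw [Submodule.mem_colon_singleton, Submodule.mem_bot, hm, smul_zero]

theorem criterion_integral [IsLocallyNoetherian X] [IsLocallyNoetherian Y] [Flat f] [Surjective f]
    (hf : QuasiCompact f ∨ IsOpenMap f) (hY : Pi1.IsNormalScheme Y)
    (hfib : ∀ y : ↥Y, ringKrullDim ↑(Y.presheaf.stalk y) = 1 → IsIntegral (f.fiber y))
    {J : X.IdealSheafData} (hJ : BlowUp.IsEffCartierIdeal J) :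
    (∃ 𝓘 : Y.IdealSheafData, BlowUp.IsEffCartierIdeal 𝓘 ∧ 𝓘.comap f = J) ↔
      ∀ η : ↥Y, (∀ z : ↥Y, z ⤳ η → z = η) → J.comap (f.fiberι η) = ⊤ := by
  have hemb : ∀ y : ↥Y, ringKrullDim ↑(Y.presheaf.stalk y) = 1 → ∀ z z' : ↥(f.fiber y),
      IsAssociatedPrime (IsLocalRing.maximalIdeal ↑((f.fiber y).presheaf.stalk z)) ↑((f.fiber y).presheaf.stalk z) →
      IsAssociatedPrime (IsLocalRing.maximalIdeal ↑((f.fiber y).presheaf.stalk z')) ↑((f.fiber y).presheaf.stalk z') →
      z' ⤳ z → z' = z := fun y hy z z' h _ h' => by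
    haveI := hfib y hy
    haveI : IsNoetherianRing ((f.fiber y).presheaf.stalk z) :=
      isNoetherianRing_of_surjective _ _ _ (Groth.Agent.S9501.result f y z).1
    exact emb_of_isIntegral z z' h h'
  refine (criterion_normal f hf hY hemb hJ).trans ⟨And.left, fun h0 => ⟨h0, fun y hy π hπ => ?_⟩⟩
  haveI := hfib y hy
  let ξ := genericPoint (f.fiber y)
  set x₀ := f.fiberι y ξ with hx₀
  have hx₀y : f x₀ = y := by
    have h' : x₀ ∈ Set.range (f.fiberι y) := ⟨ξ, rfl⟩
    rwa [f.range_fiberι] at h'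
  have huniq : ∀ x : X, f x = y → (∀ p : X, f p = y → p ⤳ x → p = x) → x = x₀ := by
    intro x hx hmax
    obtain ⟨z, rfl⟩ : x ∈ Set.range (f.fiberι y) := by rw [f.range_fiberι]; exact hx
    exact (hmax x₀ hx₀y ((genericPoint_specializes z).map (f.fiberι y).continuous)).symm
  set πx := ψ f (specializes_of_eq hx₀y) π
  have hm : maximalIdeal (X.presheaf.stalk x₀) = Ideal.span {πx} := by
    have key : ∀ (y' : Y) (hy' : y' = y) (z : f.fiber y'), f.fiberι y' z = x₀ →
        maximalIdeal ((f.fiber y').presheaf.stalk z) = ⊥ → maximalIdeal (X.presheaf.stalk x₀) = Ideal.span {πx} := by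
      rintro y' rfl z hzx hbot
      have key2 : ∀ p (hp : f.fiberι y' z = p), maximalIdeal (X.presheaf.stalk p) =
          (maximalIdeal (Y.presheaf.stalk (f p))).map (f.stalkMap p).hom := by
        rintro p rfl
        obtain ⟨hsurj, hker⟩ := Groth.Agent.S9501.result f y' z
        refine le_antisymm (fun b hb => hker.le ?_) (IsLocalRing.map_maximalIdeal_le _)
        rw [RingHom.mem_ker, ← Submodule.mem_bot (R := (f.fiber y').presheaf.stalk z), ← hbot]
        exact (mem_maximalIdeal _).2 fun hu => (mem_maximalIdeal _).1 hb (isUnit_of_map_unit _ _ hu)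
      rw [key2 x₀ hzx]
      have e : maximalIdeal (Y.presheaf.stalk (f x₀)) =
          Ideal.span {(Y.presheaf.stalkSpecializes (specializes_of_eq hx₀y)).hom π} := by
        have : ∀ (w : Y) (hw : w = y'), maximalIdeal (Y.presheaf.stalk w) =
            Ideal.span {(Y.presheaf.stalkSpecializes (specializes_of_eq hw)).hom π} := by
          rintro w rfl
          rw [TopCat.Presheaf.stalkSpecializes_refl]
          exact hπ
        exact this _ hx₀y
      rw [e, Ideal.map_span, Set.image_singleton]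
      rfl
    refine key y rfl ξ rfl ?_
    haveI : IsDomain ((f.fiber y).presheaf.stalk ξ) := inferInstance
    exact IsLocalRing.isField_iff_maximalIdeal_eq.1 (Field.toIsField (f.fiber y).functionField)
  obtain ⟨t, ht, hJt⟩ := exists_gen hJ x₀
  obtain ⟨n, u, hu, rfl⟩ := exists_pow hm (nonZeroDivisors.ne_zero ht)
  refine ⟨n, fun x hx hmax => ?_⟩
  obtain rfl := huniq x hx hmax
  rw [hJt, Ideal.span_singleton_mul_left_unit hu]

end DivDescLib
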