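import Groth.Agent.DivDescLib.Local
import Groth.Agent.EffCartLib.Basic

/-!
# Descent of effective Cartier divisors along faithfully flat morphisms
-/

set_option autoImplicit false
set_option backward.isDefEq.respectTransparency.types false

universe u

open CategoryTheory CategoryTheory.Limits AlgebraicGeometry TopologicalSpace IsLocalRing

noncomputable section

namespace DivDescLib

variable {X Y : Scheme.{u}} (f : X ⟶ Y)

/-- From the local ring at a point to the local rings over its generizations. -/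
abbrev ψ {x : X} {y : Y} (h : f x ⤳ y) : Y.presheaf.stalk y →+* X.presheaf.stalk x :=
  (f.stalkMap x).hom.comp (Y.presheaf.stalkSpecializes h).hom

lemma ψ_trans {x : X} {y z : Y} (h : f x ⤳ y) (hyz : y ⤳ z) :
    ψ f (h.trans hyz) = (ψ f h).comp (Y.presheaf.stalkSpecializes hyz).hom := by
  rw [ψ, ψ, RingHom.comp_assoc, ← CommRingCat.hom_comp (Y.presheaf.stalkSpecializes hyz),
    TopCat.Presheaf.stalkSpecializes_comp]

/-- The divisor descends to the local ring at a point. -/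
def LocAt (J : X.IdealSheafData) (y : Y) : Prop :=
  ∃ g ∈ nonZeroDivisors (Y.presheaf.stalk y), ∀ (x : X) (h : f x ⤳ y),
    IntMult.stalkIdeal J x = Ideal.span {ψ f h g}

/-- Sections over an open to the local rings over it. -/
abbrev φW (W : Y.Opens) (x : X) (hx : f x ∈ W) : Γ(Y, W) →+* X.presheaf.stalk x :=
  (f.stalkMap x).hom.comp (Y.presheaf.germ W (f x) hx).hom

/-- Sections lying in the divisor along a set of points. -/
def KU (J : X.IdealSheafData) (W : Y.Opens) (U : Set X) (hU : U ⊆ f ⁻¹' W) : Ideal Γ(Y, W) :=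
  ⨅ (x : X) (hx : x ∈ U), (IntMult.stalkIdeal J x).comap (φW f W x (hU hx))

lemma mem_KU {J : X.IdealSheafData} {W : Y.Opens} {U : Set X} {hU : U ⊆ f ⁻¹' W} {s : Γ(Y, W)} :
    s ∈ KU f J W U hU ↔ ∀ (x : X) (hx : x ∈ U), φW f W x (hU hx) s ∈ IntMult.stalkIdeal J x := by
  simp [KU, Ideal.mem_iInf]

variable [IsLocallyNoetherian X] [IsLocallyNoetherian Y] [Flat f] {J : X.IdealSheafData}

section
variable (hJ : BlowUp.IsEffCartierIdeal J)
  (hloc : ∀ y : Y, LocCoh.depth (Y.presheaf.stalk y) (Y.presheaf.stalk y) ≤ 1 → LocAt f J y)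

include hJ hloc in
/-- The divisor is generated by the sections lying in it. -/
theorem sol_of_compact (W : Y.affineOpens) (U : X.Opens) (hUc : IsCompact (U : Set X))
    (hU : (U : Set X) ⊆ f ⁻¹' W.1) (x : X) (hx : x ∈ U) :
    IntMult.stalkIdeal J x = (KU f J W.1 U hU).map (φW f W.1 x (hU hx)) := by
  classical
  set K := KU f J W.1 U hU with hK
  haveI : IsNoetherianRing Γ(Y, W.1) := IsLocallyNoetherian.component_noetherian W
  refine le_antisymm ?_ (Ideal.map_le_iff_le_comap.2 fun s hs => (mem_KU f).1 hs x hx)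
  obtain ⟨V, hV, hxV, hVU⟩ := exists_isAffineOpen_mem_and_subset (x := x) (U := U) hx
  rw [SDivLib.stalkIdeal_eq J ⟨V, hV⟩ hxV, Ideal.map_le_iff_le_comap]
  intro e he
  rw [Ideal.mem_comap]
  by_contra hne
  have hVW : V ≤ f ⁻¹ᵁ W.1 := fun z hz => hU (hVU hz)
  have hmap : ∀ z (hz : z ∈ V), (K.map (f.appLE W.1 V hVW).hom).map (X.presheaf.germ V z hz).hom =
      K.map (φW f W.1 z (hVW hz)) := fun z hz => by rw [Ideal.map_map, germ_stalkMap_appLE f W.1 V hVW hz]
  rw [← hmap x hxV] at hne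
  obtain ⟨x', hx', -, hne', u, hu, hmu⟩ := exists_assPoint ⟨V, hV⟩ _ hxV e hne
  rw [hmap x' hx'] at hne' hu hmu
  have hqW : f x' ∈ W.1 := hVW hx'
  let γ := (Y.presheaf.germ W.1 (f x') hqW).hom
  have hφ' : K.map (φW f W.1 x' hqW) = (K.map γ).map (f.stalkMap x').hom := (Ideal.map_map _ _).symm
  rw [hφ'] at hne' hu hmu
  obtain ⟨w₀, hw₀, hmw₀⟩ : ∃ w, w ∉ K.map γ ∧ ∀ a ∈ maximalIdeal (Y.presheaf.stalk (f x')), a * w ∈ K.map γ := by
    refine exists_socle fun a ha => ?_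
    by_contra h
    push Not at h
    refine hu (mem_map_of_mul_mem _ (flat_stalkMap f x') h (hmu _ ?_))
    exact (mem_maximalIdeal _).2 fun h' => ha (isUnit_of_map_unit (f.stalkMap x').hom a h')
  obtain ⟨s, c₀, hc₀, hs⟩ := exists_germ_eq W hqW w₀
  have hc₀u := (isUnit_germ_iff W hqW c₀).2 hc₀
  have hsK : γ s ∉ K.map γ := by
    rw [← hs, mul_comm, (K.map γ).unit_mul_mem_iff_mem hc₀u]
    exact hw₀
  have hd : ∀ d ∈ SDivLib.prm W hqW, ∃ c, c ∉ SDivLib.prm W hqW ∧ c * (d * s) ∈ K := by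
    intro d hd
    refine (germ_mem_iff W K hqW (d * s)).1 ?_
    rw [map_mul, ← hs, ← mul_assoc]
    exact Ideal.mul_mem_right _ _ (hmw₀ _ ((mem_maximalIdeal _).2 ((SDivLib.mem_prm_iff _ _ _).1 hd)))
  obtain ⟨F, hF⟩ := IsNoetherian.noetherian (SDivLib.prm W hqW)
  choose c hc hcd using hd
  let cc := ∏ d : F, c d.1 (hF.le (Submodule.subset_span d.2))
  have hcc : cc ∉ SDivLib.prm W hqW := fun h => by
    obtain ⟨d, -, hd⟩ := Ideal.IsPrime.prod_mem_iff.1 h
    exact hc _ _ hd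
  have hqs : ∀ d ∈ SDivLib.prm W hqW, d * (cc * s) ∈ K := by
    intro d hd
    rw [← hF] at hd
    induction hd using Submodule.span_induction with
    | mem d hd =>
      obtain ⟨r, hr⟩ := Finset.dvd_prod_of_mem (fun d : F => c d.1 (hF.le (Submodule.subset_span d.2)))
        (Finset.mem_univ ⟨d, hd⟩)
      rw [show d * (cc * s) = r * (c d (hF.le (Submodule.subset_span hd)) * (d * s)) by rw [show cc = _ from hr]; ring]
      exact K.mul_mem_left _ (hcd _ _)
    | zero => rw [zero_mul]; exact K.zero_mem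
    | add a b _ _ ha hb => rw [add_mul]; exact K.add_mem ha hb
    | smul r a _ ha => rw [smul_eq_mul, mul_assoc]; exact K.mul_mem_left _ ha
  have hs' : cc * s ∉ K := fun h => by
    have := Ideal.mem_map_of_mem γ h
    rw [map_mul, (K.map γ).unit_mul_mem_iff_mem ((isUnit_germ_iff W hqW cc).2 hcc)] at this
    exact hsK this
  rw [mem_KU] at hs'
  push Not at hs'
  obtain ⟨x₂, hx₂, hx₂'⟩ := hs'
  obtain ⟨V₂, hV₂, hx₂V, hV₂U⟩ := exists_isAffineOpen_mem_and_subset (x := x₂) (U := U) hx₂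
  have hV₂W : V₂ ≤ f ⁻¹ᵁ W.1 := fun z hz => hU (hV₂U hz)
  rw [SDivLib.stalkIdeal_eq J ⟨V₂, hV₂⟩ hx₂V, φW, ← germ_stalkMap_appLE f W.1 V₂ hV₂W hx₂V] at hx₂'
  obtain ⟨x₃, hx₃, -, hne₃, u₃, hu₃, hmu₃⟩ := exists_assPoint ⟨V₂, hV₂⟩ _ hx₂V _ hx₂'
  rw [← SDivLib.stalkIdeal_eq J ⟨V₂, hV₂⟩ hx₃] at hne₃ hu₃ hmu₃
  have hy₃ : f x₃ ∈ W.1 := hV₂W hx₃
  have hne₃' : φW f W.1 x₃ hy₃ (cc * s) ∉ IntMult.stalkIdeal J x₃ := fun h => hne₃ (by
    rwa [φW, ← germ_stalkMap_appLE f W.1 V₂ hV₂W hx₃] at h)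
  obtain ⟨t, ht, hJt⟩ := exists_gen hJ x₃
  rw [hJt] at hu₃ hmu₃
  obtain ⟨g, -, hg⟩ := hloc (f x₃) (depth_le_one (f.stalkMap x₃).hom (flat_stalkMap f x₃) ht hu₃ hmu₃)
  have hsp : f x' ⤳ f x₃ := (SDivLib.specializes_iff_prm W hy₃ hqW).2 fun d hd => by
    by_contra h
    refine hne₃' ?_
    have hdu : IsUnit (φW f W.1 x₃ hy₃ d) := ((isUnit_germ_iff W hy₃ d).2 h).map (f.stalkMap x₃).hom
    rw [← (IntMult.stalkIdeal J x₃).unit_mul_mem_iff_mem hdu, ← map_mul]
    exact (mem_KU f).1 (hqs d hd) x₃ (hV₂U hx₃)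
  let gq := (Y.presheaf.stalkSpecializes hsp).hom g
  obtain ⟨a, c₁, hc₁, hga⟩ := exists_germ_eq W hqW gq
  have hc₁u := (isUnit_germ_iff W hqW c₁).2 hc₁
  have hJa : ∀ (z : X) (h : f z ⤳ f x'), IntMult.stalkIdeal J z = Ideal.span {φW f W.1 z (h.mem_open W.1.2 hqW) a} := by
    intro z h
    have e : (ψ f h) (γ a) = φW f W.1 z (h.mem_open W.1.2 hqW) a := by
      change (f.stalkMap z).hom ((Y.presheaf.germ W.1 (f x') hqW ≫ Y.presheaf.stalkSpecializes h).hom a) = _
      rw [TopCat.Presheaf.germ_stalkSpecializes]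
      rfl
    rw [hg z (h.trans hsp), ψ_trans f h hsp, RingHom.comp_apply, ← e, ← show gq * γ c₁ = γ a from hga, map_mul,
      Ideal.span_singleton_mul_right_unit (hc₁u.map (ψ f h))]
  have hcov : ∀ z : (U : Set X), ∃ V : X.affineOpens, (z : X) ∈ V.1 ∧ V.1 ≤ U := fun z => by
    obtain ⟨V, hV, hz, hle⟩ := exists_isAffineOpen_mem_and_subset (x := (z : X)) (U := U) z.2
    exact ⟨⟨V, hV⟩, hz, hle⟩
  choose Vz hzV hVzU using hcov
  obtain ⟨T, hT⟩ := hUc.elim_finite_subcover (fun z => ((Vz z).1 : Set X)) (fun z => (Vz z).1.2)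
    fun z hz => Set.mem_iUnion.2 ⟨⟨z, hz⟩, hzV _⟩
  have hcz : ∀ z : (U : Set X), ∃ c, c ∉ SDivLib.prm W hqW ∧
      (f.appLE W.1 (Vz z).1 (fun p hp => hU (hVzU z hp))).hom (c * a) ∈ J.ideal (Vz z) := by
    intro z
    by_contra h
    push Not at h
    let φ := (f.appLE W.1 (Vz z).1 (fun p hp => hU (hVzU z hp))).hom
    have hdis : Disjoint (((J.ideal (Vz z)).colon {φ a} : Ideal _) : Set Γ(X, (Vz z).1))
        ((SDivLib.prm W hqW).primeCompl.map φ : Submonoid Γ(X, (Vz z).1)) := by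
      rw [Set.disjoint_left]
      rintro _ hmem ⟨c, hc, rfl⟩
      refine h c hc ?_
      rw [map_mul]
      exact Submodule.mem_colon_singleton.1 hmem
    obtain ⟨P, hP, hle, hdisP⟩ := Ideal.exists_le_prime_disjoint _ _ hdis
    haveI := hP
    obtain ⟨p, hp, rfl⟩ := SDivLib.exists_point (Vz z) P
    have hpW : f p ∈ W.1 := hU (hVzU z hp)
    have hspec : f p ⤳ f x' := (SDivLib.specializes_iff_prm W hqW hpW).2 fun d hd => by
      by_contra hdq
      have hd' : φ d ∈ SDivLib.prm (Vz z) hp := (SDivLib.mem_prm_iff _ _ _).2 fun hu' =>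
        (SDivLib.mem_prm_iff _ _ _).1 hd (isUnit_of_map_unit (f.stalkMap p).hom _ (
          congrArg (fun F : Γ(Y, W.1) →+* X.presheaf.stalk p => F d)
            (germ_stalkMap_appLE f W.1 (Vz z).1 (fun p hp => hU (hVzU z hp)) hp) ▸ hu'))
      exact Set.disjoint_left.1 hdisP hd' ⟨d, hdq, rfl⟩
    have hmem : φW f W.1 p hpW a ∈ IntMult.stalkIdeal J p := by
      rw [hJa p hspec]; exact Ideal.mem_span_singleton_self _
    rw [SDivLib.stalkIdeal_eq J (Vz z) hp, φW,
      ← germ_stalkMap_appLE f W.1 (Vz z).1 (fun p hp => hU (hVzU z hp)) hp, RingHom.comp_apply] at hmem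
    obtain ⟨d, hd, hda⟩ := (germ_mem_iff (Vz z) (J.ideal (Vz z)) hp _).1 hmem
    exact hd (hle (Submodule.mem_colon_singleton.2 hda))
  choose cz hcz hcza using hcz
  let C := ∏ z ∈ T, cz z
  have hC : C ∉ SDivLib.prm W hqW := fun h => by
    obtain ⟨d, -, hd⟩ := Ideal.IsPrime.prod_mem_iff.1 h
    exact hcz d hd
  have hCa : C * a ∈ K := by
    refine (mem_KU f).2 fun p hp => ?_
    obtain ⟨z, hzT, hpz⟩ := Set.mem_iUnion₂.1 (hT hp)
    obtain ⟨r, hr⟩ := Finset.dvd_prod_of_mem cz hzT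
    rw [show C * a = r * (cz z * a) by rw [show C = _ from hr]; ring, map_mul]
    refine Ideal.mul_mem_left _ _ ?_
    rw [SDivLib.stalkIdeal_eq J (Vz z) hpz, φW,
      ← germ_stalkMap_appLE f W.1 (Vz z).1 (fun p hp => hU (hVzU z hp)) hpz]
    exact Ideal.mem_map_of_mem _ (hcza z)
  have haK : γ a ∈ K.map γ := by
    rw [← (K.map γ).unit_mul_mem_iff_mem ((isUnit_germ_iff W hqW C).2 hC), ← map_mul]
    exact Ideal.mem_map_of_mem _ hCa
  refine hne' ?_
  have hmem : (X.presheaf.germ V x' hx').hom e ∈ IntMult.stalkIdeal J x' := by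
    rw [SDivLib.stalkIdeal_eq J ⟨V, hV⟩ hx']; exact Ideal.mem_map_of_mem _ he
  rw [hJa x' specializes_rfl] at hmem
  exact (Ideal.span_singleton_le_iff_mem _).2 (Ideal.mem_map_of_mem _ haK) hmem

variable [Surjective f]

/-- Ideals of sections extending to the divisor are determined. -/
theorem eq_of_sol (W : Y.affineOpens) (U : Set X) (hU : U ⊆ f ⁻¹' W.1) (hsurj : (W.1 : Set Y) ⊆ f '' U)
    {K : Ideal Γ(Y, W.1)} (hK : ∀ x (hx : x ∈ U), IntMult.stalkIdeal J x = K.map (φW f W.1 x (hU hx))) :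
    KU f J W.1 U hU = K := by
  refine le_antisymm (fun s hs => mem_of_germ W K s fun y hy => ?_) (fun s hs => (mem_KU f).2 fun x hx => ?_)
  · obtain ⟨x, hx, rfl⟩ := hsurj hy
    have h := (mem_KU f).1 hs x hx
    rw [hK x hx, φW, ← Ideal.map_map] at h
    rw [← comap_map_self (f.stalkMap x).hom (flat_stalkMap f x) (K.map _)]
    exact h
  · rw [hK x hx]; exact Ideal.mem_map_of_mem _ hs

variable (hcover : ∀ W : Y.affineOpens, ∃ U : X.Opens, IsCompact (U : Set X) ∧ (U : Set X) ⊆ f ⁻¹' W.1 ∧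
    (W.1 : Set Y) ⊆ f '' U)

include hJ hloc hcover in
/-- The sections over an affine open generate the divisor over it. -/
theorem sol (W : Y.affineOpens) (x : X) (hx : f x ∈ W.1) :
    IntMult.stalkIdeal J x = (KU f J W.1 (f ⁻¹' W.1) subset_rfl).map (φW f W.1 x hx) := by
  obtain ⟨U, hUc, hU, hsurj⟩ := hcover W
  have enlarge : ∀ z (hz : f z ∈ W.1), ∀ s ∈ KU f J W.1 (U : Set X) hU, φW f W.1 z hz s ∈ IntMult.stalkIdeal J z := by
    intro z hz
    obtain ⟨V, hV, hzV, hVW⟩ := exists_isAffineOpen_mem_and_subset (x := z) (U := f ⁻¹ᵁ W.1) hz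
    have hUV : ((U ⊔ V : X.Opens) : Set X) ⊆ f ⁻¹' W.1 := by
      rintro p (hp | hp)
      exacts [hU hp, hVW hp]
    have hsol := sol_of_compact f hJ hloc W (U ⊔ V) (hUc.union hV.isCompact) hUV
    have e := eq_of_sol f W (U : Set X) hU hsurj fun p hp => hsol p (Or.inl hp)
    intro s hs
    rw [e] at hs
    exact (mem_KU f).1 hs z (Or.inr hzV)
  obtain ⟨V, hV, hxV, hVW⟩ := exists_isAffineOpen_mem_and_subset (x := x) (U := f ⁻¹ᵁ W.1) hx
  have hUV : ((U ⊔ V : X.Opens) : Set X) ⊆ f ⁻¹' W.1 := by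
    rintro p (hp | hp)
    exacts [hU hp, hVW hp]
  have e1 : KU f J W.1 (f ⁻¹' W.1) subset_rfl = KU f J W.1 ((U ⊔ V : X.Opens) : Set X) hUV := by
    refine le_antisymm (fun s hs => (mem_KU f).2 fun p hp => (mem_KU f).1 hs p (hUV hp))
      (fun s hs => (mem_KU f).2 fun p hp => enlarge p hp s ((mem_KU f).2 fun p' hp' => (mem_KU f).1 hs p' (Or.inl hp')))
  rw [e1]
  exact sol_of_compact f hJ hloc W (U ⊔ V) (hUc.union hV.isCompact) hUV x (Or.inr hxV)

include hJ hloc hcover in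
/-- Descent of effective Cartier divisors. -/
theorem exists_descent : ∃ I : Y.IdealSheafData, BlowUp.IsEffCartierIdeal I ∧ I.comap f = J := by
  let I : Y.IdealSheafData :=
    { ideal := fun W => KU f J W.1 (f ⁻¹' W.1) subset_rfl
      map_ideal_basicOpen := fun W r => by
        have hle : (Y.affineBasicOpen r).1 ≤ W.1 := Y.basicOpen_le r
        refine (eq_of_sol f (Y.affineBasicOpen r) (f ⁻¹' (Y.affineBasicOpen r).1) subset_rfl
          (fun y hy => ?_) fun x hx => ?_).symm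
        · obtain ⟨x, rfl⟩ := f.surjective y
          exact ⟨x, hy, rfl⟩
        · refine Eq.trans ?_ (Ideal.map_map _ _).symm
          rw [sol f hJ hloc hcover W x (hle hx)]
          congr 1
          exact (congrArg (fun g : Γ(Y, W.1) ⟶ Y.presheaf.stalk (f x) => (f.stalkMap x).hom.comp g.hom)
            (Y.presheaf.germ_res (homOfLE hle) (f x) hx)).symm }
  have hst : ∀ x : X, IntMult.stalkIdeal J x = (IntMult.stalkIdeal I (f x)).map (f.stalkMap x).hom := by
    intro x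
    obtain ⟨W, hW, hxW, -⟩ := exists_isAffineOpen_mem_and_subset (x := f x) (U := ⊤) trivial
    rw [SDivLib.stalkIdeal_eq I ⟨W, hW⟩ hxW, Ideal.map_map, sol f hJ hloc hcover ⟨W, hW⟩ x hxW]
  refine ⟨I, EffCartLib.isEffCartier_of_stalk I fun y _ U hy => ?_, eq_of_stalk fun x => ?_⟩
  · rw [← SDivLib.stalkIdeal_eq I U hy]
    obtain ⟨x, rfl⟩ := f.surjective y
    obtain ⟨t, ht, hJt⟩ := exists_gen hJ x
    set φ := (f.stalkMap x).hom
    set Iy := IntMult.stalkIdeal I (f x)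
    have hmap : Iy.map φ = Ideal.span {t} := (hst x).symm.trans hJt
    obtain ⟨k, hk, hku⟩ : ∃ k ∈ Iy, ∃ r, IsUnit r ∧ φ k = r * t := by
      by_contra h
      push Not at h
      have : Iy.map φ ≤ maximalIdeal (X.presheaf.stalk x) * Ideal.span {t} := Ideal.map_le_iff_le_comap.2 fun k hk => by
        obtain ⟨r, hr⟩ := Ideal.mem_span_singleton'.1 (hmap ▸ Ideal.mem_map_of_mem φ hk)
        rw [Ideal.mem_comap, ← hr]
        exact Ideal.mul_mem_mul ((mem_maximalIdeal r).2 fun hu => h k hk r hu hr.symm) (Ideal.mem_span_singleton_self t)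
      rw [hmap] at this
      obtain ⟨m, hm, hmt⟩ := Ideal.mem_mul_span_singleton.1 (this (Ideal.mem_span_singleton_self t))
      have hm1 : m = 1 := by
        have : (m - 1) * t = 0 := by rw [sub_mul, hmt, one_mul, sub_self]
        exact sub_eq_zero.1 (mem_nonZeroDivisors_iff_right.1 ht _ this)
      exact (maximalIdeal.isMaximal _).ne_top ((Ideal.eq_top_iff_one _).2 (hm1 ▸ hm))
    obtain ⟨r, hr, hkr⟩ := hku
    refine ⟨k, ?_, ?_⟩
    · refine mem_nonZeroDivisors_iff_right.2 fun z hz => injective_of_flat φ (flat_stalkMap f x) ?_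
      rw [map_zero]
      refine mem_nonZeroDivisors_iff_right.1 (mul_mem hr.mem_nonZeroDivisors ht) (φ z) ?_
      rw [← hkr, ← map_mul, hz, map_zero]
    · refine le_antisymm (fun z hz => ?_) ((Ideal.span_singleton_le_iff_mem _).2 hk)
      rw [← comap_map_self φ (flat_stalkMap f x) (Ideal.span {k}), Ideal.mem_comap, Ideal.map_span, Set.image_singleton,
        hkr, Ideal.span_singleton_mul_left_unit hr, ← hmap]
      exact Ideal.mem_map_of_mem φ hz
  · rw [stalkIdeal_comap, ← hst]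

end

end DivDescLib
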