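import Groth.Agent.DivDescLib.Main
import Groth.Agent.S9501
import Groth.Prelude.Def_Pi1
import Mathlib.RingTheory.Filtration
import Mathlib.RingTheory.DiscreteValuationRing.TFAE

/-!
# Descent of effective Cartier divisors to normal schemes
-/

set_option autoImplicit false
set_option backward.isDefEq.respectTransparency.types false

universe u

open CategoryTheory CategoryTheory.Limits AlgebraicGeometry TopologicalSpace IsLocalRing

noncomputable section

namespace DivDescLib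

/-- A nonzero element is a unit times a power of a generator of the maximal ideal. -/
theorem exists_pow {B : Type u} [CommRing B] [IsLocalRing B] [IsNoetherianRing B] {p : B}
    (hp : maximalIdeal B = Ideal.span {p}) {t : B} (ht : t ≠ 0) : ∃ (n : ℕ) (u : B), IsUnit u ∧ t = u * p ^ n := by
  classical
  have hex : ∃ n, t ∉ Ideal.span {p ^ n} := by
    by_contra h
    push Not at h
    refine ht ?_
    rw [← Submodule.mem_bot B, ← Ideal.iInf_pow_eq_bot_of_isLocalRing (maximalIdeal B) (maximalIdeal.isMaximal B).ne_top,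
      Submodule.mem_iInf]
    intro n
    rw [hp, Ideal.span_singleton_pow]
    exact h n
  have h0 : Nat.find hex ≠ 0 := fun h => by
    have := Nat.find_spec hex
    rw [h, pow_zero, Ideal.span_singleton_one] at this
    exact this Submodule.mem_top
  obtain ⟨n, hn⟩ := Nat.exists_eq_succ_of_ne_zero h0
  obtain ⟨u, hu⟩ := Ideal.mem_span_singleton'.1 (not_not.1 (Nat.find_min hex (show n < Nat.find hex by omega)))
  refine ⟨n, u, ?_, hu.symm⟩
  by_contra hne
  obtain ⟨v, rfl⟩ := Ideal.mem_span_singleton'.1 (hp ▸ (mem_maximalIdeal u).2 hne)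
  refine Nat.find_spec hex (hn ▸ Ideal.mem_span_singleton'.2 ⟨v, ?_⟩)
  rw [← hu, pow_succ]
  ring

/-- Depth zero of a principal quotient does not depend on the generator. -/
theorem socle_change {B : Type u} [CommRing B] [IsLocalRing B] {s p : B} (hs : s ∈ nonZeroDivisors B)
    (hp : p ∈ nonZeroDivisors B) (hpm : p ∈ maximalIdeal B) {w : B} (hw : w ∉ Ideal.span {s})
    (hm : ∀ b ∈ maximalIdeal B, b * w ∈ Ideal.span {s}) :
    ∃ v, v ∉ Ideal.span {p} ∧ ∀ b ∈ maximalIdeal B, b * v ∈ Ideal.span {p} := by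
  obtain ⟨v, hv⟩ := Ideal.mem_span_singleton'.1 (hm p hpm)
  refine ⟨v, fun hc => hw ?_, fun b hb => ?_⟩
  · obtain ⟨v', rfl⟩ := Ideal.mem_span_singleton'.1 hc
    refine Ideal.mem_span_singleton'.2 ⟨v', sub_eq_zero.1 (mem_nonZeroDivisors_iff_right.1 hp _ ?_)⟩
    linear_combination hv
  · obtain ⟨r, hr⟩ := Ideal.mem_span_singleton'.1 (hm b hb)
    refine Ideal.mem_span_singleton'.2 ⟨r, sub_eq_zero.1 (mem_nonZeroDivisors_iff_right.1 hs _ ?_)⟩
    linear_combination p * hr - b * hv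

variable {X Y : Scheme.{u}} (f : X ⟶ Y)

/-- The ideal of a closed subscheme on the spectrum of a local ring. -/
theorem ideal_comap_fromSpecStalk (J : X.IdealSheafData) (x : X) :
    (J.comap (X.fromSpecStalk x)).ideal ⟨⊤, isAffineOpen_top _⟩ =
      (IntMult.stalkIdeal J x).map (Scheme.ΓSpecIso (X.presheaf.stalk x)).inv.hom := by
  obtain ⟨V, hV, hxV, -⟩ := exists_isAffineOpen_mem_and_subset (x := x) (U := ⊤) trivial
  have hle : (⊤ : (Spec (X.presheaf.stalk x)).Opens) ≤ X.fromSpecStalk x ⁻¹ᵁ V := by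
    intro z _
    have hz : X.fromSpecStalk x z ∈ Set.range (X.fromSpecStalk x) := ⟨z, rfl⟩
    rw [Scheme.range_fromSpecStalk] at hz
    exact hz.mem_open V.2 hxV
  rw [Groth.Agent.S4666.ideal_comap_eq J (X.fromSpecStalk x) ⟨V, hV⟩ ⟨⊤, isAffineOpen_top _⟩ hle,
    SDivLib.stalkIdeal_eq J ⟨V, hV⟩ hxV, Ideal.map_map, ← CommRingCat.hom_comp]
  congr 2
  rw [Scheme.Hom.appLE, Scheme.fromSpecStalk_app hxV, Category.assoc, Category.assoc, ← Functor.map_comp]
  exact congrArg (X.presheaf.germ V x hxV ≫ (Scheme.ΓSpecIso (X.presheaf.stalk x)).inv ≫ ·)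
    ((congrArg ((Spec (X.presheaf.stalk x)).presheaf.map) (Subsingleton.elim _ (𝟙 _))).trans
      ((Spec (X.presheaf.stalk x)).presheaf.map_id _)) |>.trans (by rw [Category.comp_id])

theorem stalkIdeal_eq_top_of_fibre {J : X.IdealSheafData} {y : Y} (h : J.comap (f.fiberι y) = ⊤) {x : X}
    (hx : f x = y) : IntMult.stalkIdeal J x = ⊤ := by
  subst hx
  have key : ∀ (z : f.fiber (f x)) (p : X), (f.fiberι (f x)) z = p → IntMult.stalkIdeal J p = ⊤ := by
    rintro z p rfl
    have e := congrArg (fun K => IntMult.stalkIdeal K z) h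
    simp only [stalkIdeal_comap, ← Scheme.IdealSheafData.one_eq_top, SDivLib.stalkIdeal_one] at e
    by_contra hne
    have h2 := Ideal.map_mono (f := ((f.fiberι (f x)).stalkMap z).hom) (IsLocalRing.le_maximalIdeal hne)
    rw [e] at h2
    exact (maximalIdeal.isMaximal _).ne_top (top_le_iff.1 (h2.trans (IsLocalRing.map_maximalIdeal_le _)))
  exact key _ x (f.fiberι_asFiber x)

/-- The prime of a generization in a local ring. -/
abbrev Qz {y z : Y} (h : z ⤳ y) : Ideal (Y.presheaf.stalk y) :=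
  (maximalIdeal (Y.presheaf.stalk z)).comap (Y.presheaf.stalkSpecializes h).hom

theorem mem_prm_of_Qz (W : Y.affineOpens) {y z : Y} (h : z ⤳ y) (hy : y ∈ W.1) (d : Γ(Y, W.1)) :
    d ∈ SDivLib.prm W (h.mem_open W.1.2 hy) ↔ (Y.presheaf.germ W.1 y hy).hom d ∈ Qz h := by
  rw [Ideal.mem_comap, SDivLib.mem_prm_iff, mem_maximalIdeal, mem_nonunits_iff]
  change _ ↔ ¬ IsUnit ((Y.presheaf.germ W.1 y hy ≫ Y.presheaf.stalkSpecializes h).hom d)
  rw [TopCat.Presheaf.germ_stalkSpecializes]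

theorem eq_of_Qz {y z z' : Y} (h : z ⤳ y) (h' : z' ⤳ y) (e : Qz h = Qz h') : z = z' := by
  obtain ⟨W, hW, hy, -⟩ := exists_isAffineOpen_mem_and_subset (x := y) (U := ⊤) trivial
  have hp : SDivLib.prm (⟨W, hW⟩ : Y.affineOpens) (h.mem_open W.2 hy) =
      SDivLib.prm (⟨W, hW⟩ : Y.affineOpens) (h'.mem_open W.2 hy) := by
    ext d
    rw [mem_prm_of_Qz ⟨W, hW⟩ h hy, mem_prm_of_Qz ⟨W, hW⟩ h' hy, e]
  exact (((SDivLib.specializes_iff_prm ⟨W, hW⟩ _ _).2 hp.le).antisymm
    ((SDivLib.specializes_iff_prm ⟨W, hW⟩ _ _).2 hp.ge)).eq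

theorem Qz_self (y : Y) : Qz (specializes_rfl : y ⤳ y) = maximalIdeal (Y.presheaf.stalk y) := by
  rw [Qz, TopCat.Presheaf.stalkSpecializes_refl]
  rfl

theorem maximal_of_field {y : Y} (hbot : maximalIdeal (Y.presheaf.stalk y) = ⊥) (z : Y) (h : z ⤳ y) : z = y := by
  refine eq_of_Qz h specializes_rfl ?_
  rw [Qz_self, hbot, eq_bot_iff, ← hbot]
  exact IsLocalRing.le_maximalIdeal (Ideal.IsPrime.comap _).ne_top

variable [IsLocallyNoetherian X] [IsLocallyNoetherian Y] [Flat f] {J : X.IdealSheafData}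

/-- No embedded associated points in fibres make associated points over the point maximal. -/
theorem isMax_of_socle {y : Y} {π : Y.presheaf.stalk y} (hπ : maximalIdeal (Y.presheaf.stalk y) = Ideal.span {π})
    (hemb : ∀ z z' : ↥(f.fiber y),
      IsAssociatedPrime (maximalIdeal ↑((f.fiber y).presheaf.stalk z)) ↑((f.fiber y).presheaf.stalk z) →
      IsAssociatedPrime (maximalIdeal ↑((f.fiber y).presheaf.stalk z')) ↑((f.fiber y).presheaf.stalk z') →
      z' ⤳ z → z' = z)
    {x : X} (hx : f x = y) {v : X.presheaf.stalk x} (hv : v ∉ Ideal.span {ψ f (specializes_of_eq hx) π})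
    (hm : ∀ b ∈ maximalIdeal (X.presheaf.stalk x), b * v ∈ Ideal.span {ψ f (specializes_of_eq hx) π}) :
    ∀ p : X, f p = y → p ⤳ x → p = x := by
  subst hx
  have hψ : ψ f (specializes_of_eq (rfl : f x = f x)) π = (f.stalkMap x).hom π := by
    rw [ψ, RingHom.comp_apply, TopCat.Presheaf.stalkSpecializes_refl]
    rfl
  rw [hψ] at hv hm
  set ι := f.fiberι (f x)
  have hassoc : IsAssociatedPrime (maximalIdeal ((f.fiber (f x)).presheaf.stalk (f.asFiber x)))
      ((f.fiber (f x)).presheaf.stalk (f.asFiber x)) := by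
    have key : ∀ (z : f.fiber (f x)) (p : X), ι z = p → ∀ (v : X.presheaf.stalk p),
        v ∉ (maximalIdeal (Y.presheaf.stalk (f p))).map (f.stalkMap p).hom →
        (∀ b ∈ maximalIdeal (X.presheaf.stalk p), b * v ∈ (maximalIdeal (Y.presheaf.stalk (f p))).map (f.stalkMap p).hom) →
        IsAssociatedPrime (maximalIdeal ((f.fiber (f x)).presheaf.stalk z)) ((f.fiber (f x)).presheaf.stalk z) := by
      rintro z p rfl v hv hm
      obtain ⟨hsurj, hker⟩ := Groth.Agent.S9501.result f (f x) z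
      haveI : IsNoetherianRing ((f.fiber (f x)).presheaf.stalk z) := isNoetherianRing_of_surjective _ _ _ hsurj
      refine isAssociatedPrime_iff.2 ⟨(maximalIdeal.isMaximal _).isPrime, (ι.stalkMap z).hom v, le_antisymm ?_ ?_⟩
      · intro c hc
        obtain ⟨b, rfl⟩ := hsurj c
        have hb : b ∈ maximalIdeal (X.presheaf.stalk (ι z)) := by
          by_contra hb
          exact (mem_maximalIdeal _).1 hc ((notMem_maximalIdeal.1 hb).map _)
        rw [Submodule.mem_colon_singleton, Submodule.mem_bot, smul_eq_mul]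
        exact (map_mul ((ι.stalkMap z).hom) b v).symm.trans (RingHom.mem_ker.1 (hker.ge (hm b hb)))
      · refine IsLocalRing.le_maximalIdeal fun htop => hv (hker.le (RingHom.mem_ker.2 ?_))
        have := (Ideal.eq_top_iff_one _).1 htop
        rwa [Submodule.mem_colon_singleton, Submodule.mem_bot, one_smul] at this
    have hmap : (maximalIdeal (Y.presheaf.stalk (f x))).map (f.stalkMap x).hom = Ideal.span {(f.stalkMap x).hom π} := by
      rw [hπ, Ideal.map_span, Set.image_singleton]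
    exact key (f.asFiber x) x (f.fiberι_asFiber x) v (hmap ▸ hv) (hmap ▸ hm)
  intro p hp hpx
  obtain ⟨zp, rfl⟩ : p ∈ Set.range ι := by rw [f.range_fiberι]; exact hp
  have hzp : zp ⤳ f.asFiber x := ι.isEmbedding.isInducing.specializes_iff.1 (by rwa [f.fiberι_asFiber x])
  obtain ⟨V, hV, hxV, -⟩ := exists_isAffineOpen_mem_and_subset (x := f.asFiber x) (U := ⊤) trivial
  let W : (f.fiber (f x)).affineOpens := ⟨V, hV⟩
  have hzV : zp ∈ W.1 := hzp.mem_open V.2 hxV
  haveI := SDivLib.prm_isPrime W hzV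
  obtain ⟨P, hP, hPle⟩ := Ideal.exists_minimalPrimes_le (I := ⊥) (J := SDivLib.prm W hzV) bot_le
  haveI := hP.1.1
  obtain ⟨z₀, hz₀, rfl⟩ := SDivLib.exists_point W P
  have hz₀p : z₀ ⤳ zp := (SDivLib.specializes_iff_prm W hzV hz₀).2 hPle
  have hz₀a : IsAssociatedPrime (maximalIdeal ((f.fiber (f x)).presheaf.stalk z₀))
      ((f.fiber (f x)).presheaf.stalk z₀) := by
    letI := (f.fiber (f x)).presheaf.algebra_section_stalk (⟨z₀, hz₀⟩ : W.1)
    haveI : IsLocalization.AtPrime ((f.fiber (f x)).presheaf.stalk z₀) (SDivLib.prm W hz₀) :=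
      W.2.isLocalization_stalk ⟨z₀, hz₀⟩
    have hmin : maximalIdeal ((f.fiber (f x)).presheaf.stalk z₀) ∈ minimalPrimes ((f.fiber (f x)).presheaf.stalk z₀) := by
      refine ⟨⟨(maximalIdeal.isMaximal _).isPrime, bot_le⟩, fun Q hQ _ => ?_⟩
      haveI := hQ.1
      have hle : Q.comap (algebraMap Γ(f.fiber (f x), W.1) _) ≤ SDivLib.prm W hz₀ := by
        rw [← IsLocalization.AtPrime.comap_maximalIdeal ((f.fiber (f x)).presheaf.stalk z₀) (SDivLib.prm W hz₀)]
        exact Ideal.comap_mono (IsLocalRing.le_maximalIdeal hQ.1.ne_top)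
      have e := le_antisymm hle (hP.2 ⟨Ideal.IsPrime.comap _, bot_le⟩ hle)
      rw [← IsLocalization.AtPrime.map_eq_maximalIdeal (SDivLib.prm W hz₀) ((f.fiber (f x)).presheaf.stalk z₀)]
      exact (Ideal.map_mono e.ge).trans Ideal.map_comap_le
    haveI : IsNoetherianRing ((f.fiber (f x)).presheaf.stalk z₀) :=
      isNoetherianRing_of_surjective _ _ _ (Groth.Agent.S9501.result f (f x) z₀).1
    exact Module.associatedPrimes.minimalPrimes_annihilator_subset_associatedPrimes _ _ (by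
      rw [Module.annihilator_eq_bot.2 inferInstance]; exact hmin)
  have e := hemb _ _ hassoc hz₀a (hz₀p.trans hzp)
  rw [e] at hz₀p
  rw [(hzp.antisymm hz₀p).eq, f.fiberι_asFiber x]

/-- Equality of principal ideals is checked at associated points. -/
theorem le_of_assPoints (V : X.affineOpens) {L M : Ideal Γ(X, V.1)} {x : X} (hx : x ∈ V.1)
    (h : ∀ (x' : X) (hx' : x' ∈ V.1), x' ⤳ x → ∀ w : X.presheaf.stalk x',
      w ∉ L.map (X.presheaf.germ V.1 x' hx').hom →
      (∀ b ∈ maximalIdeal (X.presheaf.stalk x'), b * w ∈ L.map (X.presheaf.germ V.1 x' hx').hom) →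
      M.map (X.presheaf.germ V.1 x' hx').hom ≤ L.map (X.presheaf.germ V.1 x' hx').hom) :
    M.map (X.presheaf.germ V.1 x hx).hom ≤ L.map (X.presheaf.germ V.1 x hx).hom := by
  rw [Ideal.map_le_iff_le_comap]
  intro e he
  rw [Ideal.mem_comap]
  by_contra hne
  obtain ⟨x', hx', hsp, hne', w, hw, hmw⟩ := exists_assPoint V L hx e hne
  exact hne' (h x' hx' hsp w hw hmw (Ideal.mem_map_of_mem _ he))

/-- The criterion over normal schemes. -/
theorem locAt_of_normal (hJ : BlowUp.IsEffCartierIdeal J) (hY : Pi1.IsNormalScheme Y)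
    (hemb : ∀ y : ↥Y, ringKrullDim ↑(Y.presheaf.stalk y) = 1 → ∀ z z' : ↥(f.fiber y),
      IsAssociatedPrime (IsLocalRing.maximalIdeal ↑((f.fiber y).presheaf.stalk z)) ↑((f.fiber y).presheaf.stalk z) →
      IsAssociatedPrime (IsLocalRing.maximalIdeal ↑((f.fiber y).presheaf.stalk z')) ↑((f.fiber y).presheaf.stalk z') →
      z' ⤳ z → z' = z)
    (h0 : ∀ η : ↥Y, (∀ z : ↥Y, z ⤳ η → z = η) → J.comap (f.fiberι η) = ⊤)
    (h1 : ∀ y : ↥Y, ringKrullDim ↑(Y.presheaf.stalk y) = 1 → ∀ π, maximalIdeal (Y.presheaf.stalk y) = Ideal.span {π} →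
      ∃ n : ℕ, ∀ (x : X) (hx : f x = y), (∀ p : X, f p = y → p ⤳ x → p = x) →
        IntMult.stalkIdeal J x = Ideal.span {ψ f (specializes_of_eq hx) π ^ n})
    (y : Y) (hy : LocCoh.depth (Y.presheaf.stalk y) (Y.presheaf.stalk y) ≤ 1) : LocAt f J y := by
  haveI := (hY y).1
  haveI := (hY y).2
  have hgen : ∀ η : Y, (∀ z : ↥Y, z ⤳ η → z = η) → ∀ x : X, f x = η → IntMult.stalkIdeal J x = ⊤ :=
    fun η hη x hx => stalkIdeal_eq_top_of_fibre f (h0 η hη) hx
  by_cases hbot : maximalIdeal (Y.presheaf.stalk y) = ⊥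
  · refine ⟨1, one_mem _, fun x h => ?_⟩
    rw [map_one, Ideal.span_singleton_one]
    exact hgen y (maximal_of_field hbot) x (maximal_of_field hbot _ h)
  obtain ⟨W, hW, hyW, -⟩ := exists_isAffineOpen_mem_and_subset (x := y) (U := ⊤) trivial
  obtain ⟨π₀, hπ₀'⟩ := (isPrincipal_of_depth_le_one hy).principal
  have hπ₀ : maximalIdeal (Y.presheaf.stalk y) = Ideal.span {π₀} := hπ₀'
  obtain ⟨d, c, hc, hdc⟩ := exists_germ_eq (⟨W, hW⟩ : Y.affineOpens) hyW π₀
  let π := (Y.presheaf.germ W y hyW).hom d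
  have hπ : maximalIdeal (Y.presheaf.stalk y) = Ideal.span {π} := by
    rw [hπ₀, show π = π₀ * _ from hdc.symm,
      Ideal.span_singleton_mul_right_unit ((isUnit_germ_iff (⟨W, hW⟩ : Y.affineOpens) hyW c).2 hc)]
  have hπ0 : π ≠ 0 := fun e => hbot (by rw [hπ, e, Ideal.span_singleton_eq_bot])
  have hdim : ringKrullDim (Y.presheaf.stalk y) = 1 := by
    have hnf : ¬ IsField (Y.presheaf.stalk y) := fun hF => hbot (IsLocalRing.isField_iff_maximalIdeal_eq.1 hF)
    haveI : IsDiscreteValuationRing (Y.presheaf.stalk y) :=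
      (List.TFAE.out (IsDiscreteValuationRing.TFAE (Y.presheaf.stalk y) hnf) 4 0 rfl rfl).1 (show (maximalIdeal (Y.presheaf.stalk y)).IsPrincipal from ⟨π, hπ⟩)
    exact IsPrincipalIdealRing.ringKrullDim_eq_one _ hnf
  obtain ⟨n, hn⟩ := h1 y hdim π hπ
  refine ⟨π ^ n, mem_nonZeroDivisors_of_ne_zero (pow_ne_zero n hπ0), fun x h => ?_⟩
  have other : ∀ (p : X) (hp : f p ⤳ y), f p ≠ y → IntMult.stalkIdeal J p = ⊤ ∧ IsUnit (ψ f hp π) := by
    intro p hp hne
    have hQ : π ∉ Qz hp := fun hπQ => hne (eq_of_Qz hp specializes_rfl (by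
      rw [Qz_self]
      exact le_antisymm (IsLocalRing.le_maximalIdeal (Ideal.IsPrime.comap _).ne_top)
        (hπ.trans_le ((Ideal.span_singleton_le_iff_mem _).2 hπQ))))
    refine ⟨hgen (f p) (fun z hz => eq_of_Qz (hz.trans hp) hp ?_) p rfl, ?_⟩
    · have hbotQ : ∀ {z : Y} (hz : z ⤳ y), Qz hz ≤ Qz hp → Qz hz = ⊥ := by
        intro z hz hle
        by_contra hne'
        obtain ⟨a, ha, ha0⟩ := Submodule.exists_mem_ne_zero_of_ne_bot hne'
        obtain ⟨m, u, hu, rfl⟩ := exists_pow hπ ha0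
        haveI : (Qz hz).IsPrime := Ideal.IsPrime.comap _
        rcases (Ideal.IsPrime.mem_or_mem inferInstance ha) with h | h
        · exact (Ideal.IsPrime.comap _ : (Qz hz).IsPrime).ne_top (Ideal.eq_top_of_isUnit_mem _ h hu)
        · exact hQ (hle (Ideal.IsPrime.mem_of_pow_mem inferInstance m h))
      have hle : Qz (hz.trans hp) ≤ Qz hp := fun a ha => by
        rw [Ideal.mem_comap] at ha ⊢
        rw [← TopCat.Presheaf.stalkSpecializes_comp _ hz hp, CommRingCat.hom_comp, RingHom.comp_apply] at ha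
        by_contra h
        exact (mem_maximalIdeal _).1 ha ((notMem_maximalIdeal.1 h).map _)
      rw [hbotQ _ hle, hbotQ hp le_rfl]
    · exact (notMem_maximalIdeal.1 hQ).map (f.stalkMap p).hom
  by_cases hxy : f x = y
  swap
  · obtain ⟨h1', h2'⟩ := other x h hxy
    rw [h1', map_pow, Ideal.span_singleton_eq_top.2 (h2'.pow n)]
  obtain ⟨V, hV, hxV, hVW⟩ := exists_isAffineOpen_mem_and_subset (x := x) (U := f ⁻¹ᵁ W) (by show f x ∈ W; rw [hxy]; exact hyW)
  let a : Γ(X, V) := (f.appLE W V hVW).hom d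
  have hga : ∀ (p : X) (hp : p ∈ V) (hpy : f p ⤳ y),
      (Ideal.span {a ^ n}).map (X.presheaf.germ V p hp).hom = Ideal.span {ψ f hpy π ^ n} := by
    intro p hp hpy
    rw [Ideal.map_span, Set.image_singleton, map_pow]
    congr 3
    change ((X.presheaf.germ V p hp).hom.comp (f.appLE W V hVW).hom) d = _
    rw [germ_stalkMap_appLE f W V hVW hp]
    change (f.stalkMap p).hom _ = (f.stalkMap p).hom ((Y.presheaf.germ W y hyW ≫ Y.presheaf.stalkSpecializes hpy).hom d)
    rw [TopCat.Presheaf.germ_stalkSpecializes]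
  have key : ∀ (p : X) (hp : p ∈ V) (hpy : f p ⤳ y) (s w : X.presheaf.stalk p), s ∈ nonZeroDivisors (X.presheaf.stalk p) →
      w ∉ Ideal.span {s} → (∀ b ∈ maximalIdeal (X.presheaf.stalk p), b * w ∈ Ideal.span {s}) →
      IntMult.stalkIdeal J p = Ideal.span {ψ f hpy π ^ n} := by
    intro p hp hpy s w hs hw hmw
    by_cases hne : f p = y
    · have hπm : ψ f hpy π ∈ maximalIdeal (X.presheaf.stalk p) := by
        refine (mem_maximalIdeal _).2 fun hu => ?_
        have hu' := isUnit_of_map_unit (f.stalkMap p).hom _ hu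
        subst hne
        rw [TopCat.Presheaf.stalkSpecializes_refl] at hu'
        exact (mem_maximalIdeal _).1 (hπ ▸ Ideal.mem_span_singleton_self π) hu'
      have hπnzd : ψ f hpy π ∈ nonZeroDivisors (X.presheaf.stalk p) := by
        subst hne
        rw [ψ, RingHom.comp_apply, TopCat.Presheaf.stalkSpecializes_refl]
        exact BlowUpLib.nzd_of_flat _ (flat_stalkMap f p) (mem_nonZeroDivisors_of_ne_zero hπ0)
      obtain ⟨v, hv, hmv⟩ := socle_change hs hπnzd hπm hw hmw
      exact hn p hne (isMax_of_socle f hπ (hemb y hdim) hne hv hmv)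
    · obtain ⟨h1', h2'⟩ := other p hpy hne
      rw [h1', Ideal.span_singleton_eq_top.2 (h2'.pow n)]
  rw [map_pow, SDivLib.stalkIdeal_eq J ⟨V, hV⟩ hxV, ← hga x hxV h]
  have hsp : ∀ (p : X), p ⤳ x → f p ⤳ y := fun p hp => (hp.map f.continuous).trans h
  refine le_antisymm (le_of_assPoints ⟨V, hV⟩ hxV fun p hp hpx w hw hmw => ?_)
    (le_of_assPoints ⟨V, hV⟩ hxV fun p hp hpx w hw hmw => ?_)
  · rw [hga p hp (hsp p hpx)] at hw hmw ⊢
    have hnzd : ψ f (hsp p hpx) π ^ n ∈ nonZeroDivisors (X.presheaf.stalk p) := by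
      refine pow_mem ?_ n
      by_cases hne : f p = y
      · subst hne
        rw [ψ, RingHom.comp_apply, TopCat.Presheaf.stalkSpecializes_refl]
        exact BlowUpLib.nzd_of_flat _ (flat_stalkMap f p) (mem_nonZeroDivisors_of_ne_zero hπ0)
      · exact (other p (hsp p hpx) hne).2.mem_nonZeroDivisors
    rw [← SDivLib.stalkIdeal_eq J ⟨V, hV⟩ hp, key p hp (hsp p hpx) _ w hnzd hw hmw]
  · rw [← SDivLib.stalkIdeal_eq J ⟨V, hV⟩ hp] at hw hmw ⊢
    obtain ⟨t, ht, hJt⟩ := exists_gen hJ p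
    have hK := key p hp (hsp p hpx) t w ht (hJt ▸ hw) (hJt ▸ hmw)
    rw [hga p hp (hsp p hpx), hK]

end DivDescLib
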