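import Groth.Agent.InvLib.Depth
import Mathlib.RingTheory.Regular.Flat
import Mathlib.RingTheory.RingHom.Flat
import Mathlib.RingTheory.Flat.FaithfullyFlat.Algebra
import Mathlib.RingTheory.TensorProduct.Quotient
import Mathlib.RingTheory.Ideal.AssociatedPrime.Finiteness
import Mathlib.RingTheory.IntegralClosure.IntegrallyClosed
import Mathlib.RingTheory.KrullDimension.Basic
import Mathlib.RingTheory.Ideal.KrullsHeightTheorem
import Mathlib.RingTheory.Finiteness.Nakayama

/-!
# Flat local homomorphisms, associated primes and depth at most one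
-/

set_option autoImplicit false

universe u

open IsLocalRing RingTheory.Sequence TensorProduct Pointwise

namespace DivDescLib

section Flat

variable {A B : Type u} [CommRing A] [CommRing B] (φ : A →+* B)

/-- Ideals descend along flat local homomorphisms. -/
theorem comap_map_self [IsLocalRing A] [IsLocalRing B] [IsLocalHom φ] (hφ : φ.Flat) (I : Ideal A) :
    (I.map φ).comap φ = I := by
  algebraize [φ]
  haveI : Module.Flat A B := hφ
  haveI : IsLocalHom (algebraMap A B) := ‹IsLocalHom φ›
  haveI : Module.FaithfullyFlat A B := Module.FaithfullyFlat.of_flat_of_isLocalHom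
  exact Ideal.comap_map_eq_self_of_faithfullyFlat I

theorem injective_of_flat [IsLocalRing A] [IsLocalRing B] [IsLocalHom φ] (hφ : φ.Flat) : Function.Injective φ := by
  rw [RingHom.injective_iff_ker_eq_bot]
  change Ideal.comap φ ⊥ = ⊥
  conv_rhs => rw [← comap_map_self φ hφ ⊥, Ideal.map_bot]

/-- A regular element on a quotient stays regular after flat base change. -/
theorem mem_map_of_mul_mem (hφ : φ.Flat) {I : Ideal A} {a : A} (ha : ∀ z, a * z ∈ I → z ∈ I) {u : B}
    (hu : φ a * u ∈ I.map φ) : u ∈ I.map φ := by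
  algebraize [φ]
  haveI : Module.Flat A B := hφ
  let μ : A ⧸ I →ₗ[A] A ⧸ I := a • LinearMap.id
  have hμ : Function.Injective μ := by
    refine (injective_iff_map_eq_zero μ).2 fun z hz => ?_
    obtain ⟨z, rfl⟩ := Ideal.Quotient.mk_surjective z
    change a • Ideal.Quotient.mk I z = 0 at hz
    rw [Algebra.smul_def, Ideal.Quotient.algebraMap_eq, ← map_mul, Ideal.Quotient.eq_zero_iff_mem] at hz
    exact Ideal.Quotient.eq_zero_iff_mem.2 (ha z hz)
  have hl : Function.Injective (μ.lTensor B) := Module.Flat.lTensor_preserves_injective_linearMap μ hμ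
  let e := Algebra.TensorProduct.quotIdealMapEquivTensorQuot B I
  rw [← Ideal.Quotient.eq_zero_iff_mem]
  apply e.injective
  rw [map_zero]
  apply hl
  rw [map_zero]
  have h0 : a • Ideal.Quotient.mk (I.map φ) u = 0 := by
    rw [← Ideal.Quotient.eq_zero_iff_mem] at hu
    exact (algebra_compatible_smul B a _).trans hu
  calc μ.lTensor B (e (Ideal.Quotient.mk (I.map φ) u)) = a • e (Ideal.Quotient.mk (I.map φ) u) := by
        simp only [μ, LinearMap.lTensor_smul, LinearMap.lTensor_id, LinearMap.smul_apply, LinearMap.id_apply]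
    _ = e (a • Ideal.Quotient.mk (I.map φ) u) := (LinearMapClass.map_smul (e.toLinearMap.restrictScalars A) a _).symm
    _ = 0 := by rw [h0, map_zero]

end Flat

/-- If every element of the maximal ideal is a zero divisor on the quotient, the maximal ideal is a colon ideal. -/
theorem exists_socle {A : Type u} [CommRing A] [IsLocalRing A] [IsNoetherianRing A] {I : Ideal A}
    (h : ∀ a ∈ maximalIdeal A, ∃ z, a * z ∈ I ∧ z ∉ I) : ∃ w, w ∉ I ∧ ∀ a ∈ maximalIdeal A, a * w ∈ I := by
  have hsub : (maximalIdeal A : Set A) ⊆ ⋃ P ∈ associatedPrimes A (A ⧸ I), (P : Set A) := by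
    rw [biUnion_associatedPrimes_eq_zero_divisors]
    intro a ha
    obtain ⟨z, hz, hzI⟩ := h a ha
    refine ⟨Ideal.Quotient.mk I z, fun e => hzI (Ideal.Quotient.eq_zero_iff_mem.1 e), ?_⟩
    rw [Algebra.smul_def, Ideal.Quotient.algebraMap_eq, ← map_mul, Ideal.Quotient.eq_zero_iff_mem]
    exact hz
  have hfin := associatedPrimes.finite A (A ⧸ I)
  rw [← hfin.coe_toFinset] at hsub
  obtain ⟨P, hP, hle⟩ := (Ideal.subset_union_prime (f := id) ⊤ ⊤
    (fun P hP _ _ => (hfin.mem_toFinset.1 hP).isPrime)).1 hsub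
  have hP' : IsAssociatedPrime P (A ⧸ I) := hfin.mem_toFinset.1 hP
  have hPm : P = maximalIdeal A :=
    le_antisymm (IsLocalRing.le_maximalIdeal hP'.isPrime.ne_top) hle
  obtain ⟨-, x, hx⟩ := isAssociatedPrime_iff.1 hP'
  obtain ⟨w, rfl⟩ := Ideal.Quotient.mk_surjective x
  refine ⟨w, fun hw => hP'.isPrime.ne_top ?_, fun a ha => ?_⟩
  · rw [hx, Ideal.eq_top_iff_one, Submodule.mem_colon_singleton, Ideal.Quotient.eq_zero_iff_mem.2 hw, smul_zero]
    exact Submodule.zero_mem _
  · rw [← hPm, hx, Submodule.mem_colon_singleton, Submodule.mem_bot, Algebra.smul_def, Ideal.Quotient.algebraMap_eq,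
      ← map_mul, Ideal.Quotient.eq_zero_iff_mem] at ha
    exact ha

/-- Below a point where a principal quotient has depth zero, the depth is at most one. -/
theorem depth_le_one {A B : Type u} [CommRing A] [IsLocalRing A] [IsNoetherianRing A] [CommRing B] [IsLocalRing B]
    (φ : A →+* B) [IsLocalHom φ] (hφ : φ.Flat) {t : B} (ht : t ∈ nonZeroDivisors B) {u : B}
    (hu : u ∉ Ideal.span {t}) (hm : ∀ b ∈ maximalIdeal B, b * u ∈ Ideal.span {t}) : LocCoh.depth A A ≤ 1 := by
  by_contra hd
  have h2 : ((2 : ℕ) : ℕ∞) ≤ LocCoh.depth A A := by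
    rw [not_le] at hd
    exact_mod_cast Order.add_one_le_of_lt hd
  obtain ⟨rs, hl, hmem, hreg⟩ := InvLib.hasSeq_of_le_depth h2
  obtain ⟨a, b, rfl⟩ := List.length_eq_two.1 hl
  algebraize [φ]
  haveI : Module.Flat A B := hφ
  have hB := hreg.of_flat (S := B)
  simp only [List.map_cons, List.map_nil, isWeaklyRegular_cons_iff] at hB
  obtain ⟨ra, rb, -⟩ := hB
  have hab : ∀ c ∈ [a, b], φ c * u ∈ Ideal.span {t} := fun c hc =>
    hm _ ((IsLocalRing.mem_maximalIdeal _).2 fun hu' => (hmem c hc) (isUnit_of_map_unit φ _ hu'))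
  obtain ⟨v, hv⟩ := Ideal.mem_span_singleton'.1 (hab a (by simp))
  obtain ⟨w, hw⟩ := Ideal.mem_span_singleton'.1 (hab b (by simp))
  have e : φ a * w = φ b * v := by
    have : (φ a * w - φ b * v) * t = 0 := by linear_combination (φ a) * hw - (φ b) * hv
    exact sub_eq_zero.1 (mem_nonZeroDivisors_iff_right.1 ht _ this)
  have hva : v ∈ (φ a • ⊤ : Submodule B B) := by
    rw [← Submodule.Quotient.mk_eq_zero]
    refine rb ?_
    dsimp only
    rw [smul_zero]
    change Submodule.Quotient.mk (φ b • v) = 0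
    rw [Submodule.Quotient.mk_eq_zero, Submodule.mem_smul_pointwise_iff_exists]
    exact ⟨w, trivial, by rw [smul_eq_mul, smul_eq_mul]; exact e⟩
  obtain ⟨v', -, hv'⟩ := (Submodule.mem_smul_pointwise_iff_exists v (φ a) ⊤).1 hva
  rw [smul_eq_mul] at hv'
  refine hu (Ideal.mem_span_singleton'.2 ⟨v', ?_⟩)
  refine ra ?_
  change φ a • (v' * t) = φ a • u
  rw [smul_eq_mul, smul_eq_mul, ← hv, ← hv']
  ring

/-- A normal Noetherian local ring of depth at most one has principal maximal ideal. -/
theorem isPrincipal_of_depth_le_one {A : Type u} [CommRing A] [IsLocalRing A] [IsNoetherianRing A] [IsDomain A]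
    [IsIntegrallyClosed A] (h : LocCoh.depth A A ≤ 1) : (maximalIdeal A).IsPrincipal := by
  by_cases hbot : maximalIdeal A = ⊥
  · exact hbot ▸ bot_isPrincipal
  obtain ⟨a, ha, ha0⟩ := Submodule.exists_mem_ne_zero_of_ne_bot hbot
  obtain ⟨w, hw, hmw⟩ : ∃ w, w ∉ Ideal.span {a} ∧ ∀ c ∈ maximalIdeal A, c * w ∈ Ideal.span {a} := by
    refine exists_socle fun b hb => ?_
    by_contra hne
    push Not at hne
    have hs : InvLib.HasSeq A A 2 := by
      refine ⟨[a, b], rfl, fun r hr => ?_, ?_⟩
      · rcases List.mem_pair.1 hr with rfl | rfl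
        exacts [ha, hb]
      · rw [isWeaklyRegular_cons_iff, isWeaklyRegular_cons_iff]
        refine ⟨IsSMulRegular.of_ne_zero ha0, ?_, IsWeaklyRegular.nil _ _⟩
        refine isSMulRegular_quotient_iff_mem_of_smul_mem _ _ |>.2 fun z hz => ?_
        have e : (a • ⊤ : Submodule A A) = Ideal.span {a} := by
          rw [← Submodule.ideal_span_singleton_smul, smul_eq_mul, Ideal.mul_top]
        rw [e] at hz ⊢
        exact hne z hz
    exact absurd (hs.le_depth.trans h) (by decide)
  choose q hq using fun c : maximalIdeal A => Ideal.mem_span_singleton'.1 (hmw c.1 c.2)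
  by_cases hall : ∀ c : maximalIdeal A, q c ∈ maximalIdeal A
  · exfalso
    let K := FractionRing A
    let x : K := algebraMap A K w / algebraMap A K a
    have hx : IsIntegral A x := by
      refine isIntegral_of_smul_mem_submodule
        (Submodule.map (Algebra.linearMap A K) (maximalIdeal A)) (fun e => ?_) ?_ x ?_
      · have : algebraMap A K a ∈ (⊥ : Submodule A K) := e ▸ ⟨a, ha, rfl⟩
        exact ha0 ((map_eq_zero_iff _ (IsFractionRing.injective A K)).1 ((Submodule.mem_bot A).1 this))
      · exact Submodule.FG.map _ (IsNoetherian.noetherian _)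
      · rintro _ ⟨c, hc, rfl⟩
        refine ⟨q ⟨c, hc⟩, hall _, ?_⟩
        have hne0 : algebraMap A K a ≠ 0 := fun e => ha0 ((map_eq_zero_iff _ (IsFractionRing.injective A K)).1 e)
        simp only [Algebra.linearMap_apply, x, smul_eq_mul]
        rw [div_mul_eq_mul_div, eq_div_iff hne0, ← map_mul, ← map_mul, hq ⟨c, hc⟩]
        congr 1
        ring
    obtain ⟨y, hy⟩ := IsIntegrallyClosed.algebraMap_eq_of_integral hx
    have hne0 : algebraMap A K a ≠ 0 := fun e => ha0 ((map_eq_zero_iff _ (IsFractionRing.injective A K)).1 e)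
    rw [eq_div_iff hne0, ← map_mul] at hy
    exact hw (Ideal.mem_span_singleton'.2 ⟨y, IsFractionRing.injective A K hy⟩)
  · push Not at hall
    obtain ⟨c, hc⟩ := hall
    have hu : IsUnit (q c) := notMem_maximalIdeal.1 hc
    refine ⟨c.1, le_antisymm (fun d hd => ?_) ((Submodule.span_singleton_le_iff_mem _ _).2 c.2)⟩
    obtain ⟨v, hv⟩ := hu.exists_left_inv
    change d ∈ Ideal.span {c.1}
    refine Ideal.mem_span_singleton'.2 ⟨q ⟨d, hd⟩ * v, ?_⟩
    refine mul_right_cancel₀ ha0 ?_
    have h1 := hq ⟨d, hd⟩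
    have h2 := hq c
    linear_combination (v * c.1) * h1 - (v * d) * h2 + (d * a) * hv

end DivDescLib
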